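import Cfsg.Agent.Lib.InvChar.SporData.F23.BetaData

set_option autoImplicit false
set_option maxRecDepth 100000

namespace CfsgLib.InvChar.Coset.F23

/-- One point of the certificate of the smaller action. -/
noncomputable def chkBetaAt (p : ℕ) : Bool :=
  force (field beta 128 20 p) fun b => Nat.ble 3510 b ||
    [(0, 0), (1, 1), (2, 2), (3, 3), (4, 4), (5, 5), (6, 6), (7, 8), (8, 9)].all fun q =>
      Nat.beq (field beta 128 20 (table.app p q.2)) (FiA.table.app b q.1)

/-- Points from `p` on. -/
noncomputable def chkBeta (cnt : ℕ) : ℕ → Bool :=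
  Nat.rec (fun _ => true) (fun _ ih p => chkBetaAt p && force (p + 1) ih) cnt

theorem chkBeta_get : ∀ (cnt p : ℕ), chkBeta cnt p = true → ∀ j, p ≤ j → j < p + cnt → chkBetaAt j = true := by
  intro cnt
  induction cnt with
  | zero => intro p _ j h1 h2; omega
  | succ cnt ih =>
    intro p h j h1 h2
    have h' : (chkBetaAt p && force (p + 1) fun p' => chkBeta cnt p') = true := h
    rw [Bool.and_eq_true, force_eq] at h'
    rcases eq_or_lt_of_le h1 with rfl | h3
    · exact h'.1
    · exact ih _ h'.2 j h3 (by omega)

theorem chk_beta0 : chkBeta 4000 0 = true := by decide +kernel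

theorem chk_beta1 : chkBeta 4000 4000 = true := by decide +kernel

theorem chk_beta2 : chkBeta 4000 8000 = true := by decide +kernel

theorem chk_beta3 : chkBeta 4000 12000 = true := by decide +kernel

theorem chk_beta4 : chkBeta 4000 16000 = true := by decide +kernel

theorem chk_beta5 : chkBeta 4000 20000 = true := by decide +kernel

theorem chk_beta6 : chkBeta 4000 24000 = true := by decide +kernel

theorem chk_beta7 : chkBeta 3671 28000 = true := by decide +kernel

theorem beta_step : ∀ x < 9, ∀ p < 31671, field beta 128 20 p < 3510 →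
    field beta 128 20 (table.app p ([0, 1, 2, 3, 4, 5, 6, 8, 9].getD x 0)) = FiA.table.app (field beta 128 20 p) x := by
  intro x hx p hp hb
  have h : chkBetaAt p = true := by
    clear hb
    rcases Nat.lt_or_ge p 4000 with h0 | h0
    · exact chkBeta_get 4000 0 chk_beta0 p (by omega) (by omega)
    rcases Nat.lt_or_ge p 8000 with h1 | h1
    · exact chkBeta_get 4000 4000 chk_beta1 p (by omega) (by omega)
    rcases Nat.lt_or_ge p 12000 with h2 | h2
    · exact chkBeta_get 4000 8000 chk_beta2 p (by omega) (by omega)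
    rcases Nat.lt_or_ge p 16000 with h3 | h3
    · exact chkBeta_get 4000 12000 chk_beta3 p (by omega) (by omega)
    rcases Nat.lt_or_ge p 20000 with h4 | h4
    · exact chkBeta_get 4000 16000 chk_beta4 p (by omega) (by omega)
    rcases Nat.lt_or_ge p 24000 with h5 | h5
    · exact chkBeta_get 4000 20000 chk_beta5 p (by omega) (by omega)
    rcases Nat.lt_or_ge p 28000 with h6 | h6
    · exact chkBeta_get 4000 24000 chk_beta6 p (by omega) (by omega)
    rcases Nat.lt_or_ge p 31671 with h7 | h7
    · exact chkBeta_get 3671 28000 chk_beta7 p (by omega) (by omega)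
    omega
  rw [chkBetaAt, force_eq, Bool.or_eq_true, Nat.ble_eq, List.all_eq_true] at h
  have h2 := h.resolve_left (Nat.not_le.2 hb)
  have hmem := (by decide : ∀ x < 9, (x, [0, 1, 2, 3, 4, 5, 6, 8, 9].getD x 0) ∈
      ([(0, 0), (1, 1), (2, 2), (3, 3), (4, 4), (5, 5), (6, 6), (7, 8), (8, 9)] : List (ℕ × ℕ))) x hx
  generalize [0, 1, 2, 3, 4, 5, 6, 8, 9].getD x 0 = y at hmem ⊢
  have h3 : Nat.beq (field beta 128 20 (table.app p y)) (FiA.table.app (field beta 128 20 p) x) = true :=
    h2 (x, y) hmem
  exact @Nat.eq_of_beq_eq_true (field beta 128 20 (table.app p y)) (FiA.table.app (field beta 128 20 p) x) h3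

theorem repPt_ok : ∀ i < 3510, field repPt 128 20 i < 31671 ∧ field beta 128 20 (field repPt 128 20 i) = i := by decide +kernel

end CfsgLib.InvChar.Coset.F23
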