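import Cfsg.Agent.Lib.InvChar.SporData.F23.R0
import Cfsg.Agent.Lib.InvChar.SporData.F23.R1
import Cfsg.Agent.Lib.InvChar.SporData.F23.R2
import Cfsg.Agent.Lib.InvChar.SporData.F23.R3
import Cfsg.Agent.Lib.InvChar.SporData.F23.R4
import Cfsg.Agent.Lib.InvChar.SporData.F23.R5
import Cfsg.Agent.Lib.InvChar.SporData.F23.R6
import Cfsg.Agent.Lib.InvChar.SporData.F23.R7
import Cfsg.Agent.Lib.InvChar.SporData.F23.F0
import Cfsg.Agent.Lib.InvChar.SporData.F23.F1
import Cfsg.Agent.Lib.InvChar.SporData.F23.F2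
import Cfsg.Agent.Lib.InvChar.SporData.F23.F3
import Cfsg.Agent.Lib.InvChar.SporData.F23.F4
import Cfsg.Agent.Lib.InvChar.SporData.F23.F5
import Cfsg.Agent.Lib.InvChar.SporData.F23.F6
import Cfsg.Agent.Lib.InvChar.SporData.F23.F7
import Cfsg.Agent.Lib.InvChar.SporData.F23.F8
import Cfsg.Agent.Lib.InvChar.SporData.F23.F9
import Cfsg.Agent.Lib.InvChar.SporData.F23.F10
import Cfsg.Agent.Lib.InvChar.SporData.F23.F11
import Cfsg.Agent.Lib.InvChar.SporData.F23.F12
import Cfsg.Agent.Lib.InvChar.SporData.F23.F13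
import Cfsg.Agent.Lib.InvChar.SporData.F23.F14
import Cfsg.Agent.Lib.InvChar.SporData.F23.F15
import Cfsg.Agent.Lib.InvChar.SporData.F23.F16
import Cfsg.Agent.Lib.InvChar.SporData.F23.F17
import Cfsg.Agent.Lib.InvChar.SporData.F23.F18
import Cfsg.Agent.Lib.InvChar.SporData.F23.F19
import Cfsg.Agent.Lib.InvChar.SporData.F23.F20
import Cfsg.Agent.Lib.InvChar.SporData.F23.F21
import Cfsg.Agent.Lib.InvChar.SporData.F23.F22
import Cfsg.Agent.Lib.InvChar.SporData.F23.F23
import Cfsg.Agent.Lib.InvChar.SporData.F23.F24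
import Cfsg.Agent.Lib.InvChar.SporData.F23.F25

set_option autoImplicit false
set_option maxRecDepth 100000

namespace CfsgLib.InvChar.Coset.F23

theorem facts_ok : ∀ j < 1614, cert.chkRun 128 (j * 128) (cert.just.get j) = true := by
  intro j hj
  rcases Nat.lt_or_ge j 64 with h0 | h0
  · obtain ⟨i, rfl⟩ : ∃ i, j = 0 + i := ⟨j - 0, by omega⟩
    exact chkBlocks_get (D := cert) 64 0 chk_facts0 i (by omega)
  rcases Nat.lt_or_ge j 128 with h1 | h1
  · obtain ⟨i, rfl⟩ : ∃ i, j = 64 + i := ⟨j - 64, by omega⟩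
    exact chkBlocks_get (D := cert) 64 64 chk_facts1 i (by omega)
  rcases Nat.lt_or_ge j 192 with h2 | h2
  · obtain ⟨i, rfl⟩ : ∃ i, j = 128 + i := ⟨j - 128, by omega⟩
    exact chkBlocks_get (D := cert) 64 128 chk_facts2 i (by omega)
  rcases Nat.lt_or_ge j 256 with h3 | h3
  · obtain ⟨i, rfl⟩ : ∃ i, j = 192 + i := ⟨j - 192, by omega⟩
    exact chkBlocks_get (D := cert) 64 192 chk_facts3 i (by omega)
  rcases Nat.lt_or_ge j 320 with h4 | h4
  · obtain ⟨i, rfl⟩ : ∃ i, j = 256 + i := ⟨j - 256, by omega⟩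
    exact chkBlocks_get (D := cert) 64 256 chk_facts4 i (by omega)
  rcases Nat.lt_or_ge j 384 with h5 | h5
  · obtain ⟨i, rfl⟩ : ∃ i, j = 320 + i := ⟨j - 320, by omega⟩
    exact chkBlocks_get (D := cert) 64 320 chk_facts5 i (by omega)
  rcases Nat.lt_or_ge j 448 with h6 | h6
  · obtain ⟨i, rfl⟩ : ∃ i, j = 384 + i := ⟨j - 384, by omega⟩
    exact chkBlocks_get (D := cert) 64 384 chk_facts6 i (by omega)
  rcases Nat.lt_or_ge j 512 with h7 | h7
  · obtain ⟨i, rfl⟩ : ∃ i, j = 448 + i := ⟨j - 448, by omega⟩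
    exact chkBlocks_get (D := cert) 64 448 chk_facts7 i (by omega)
  rcases Nat.lt_or_ge j 576 with h8 | h8
  · obtain ⟨i, rfl⟩ : ∃ i, j = 512 + i := ⟨j - 512, by omega⟩
    exact chkBlocks_get (D := cert) 64 512 chk_facts8 i (by omega)
  rcases Nat.lt_or_ge j 640 with h9 | h9
  · obtain ⟨i, rfl⟩ : ∃ i, j = 576 + i := ⟨j - 576, by omega⟩
    exact chkBlocks_get (D := cert) 64 576 chk_facts9 i (by omega)
  rcases Nat.lt_or_ge j 704 with h10 | h10
  · obtain ⟨i, rfl⟩ : ∃ i, j = 640 + i := ⟨j - 640, by omega⟩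
    exact chkBlocks_get (D := cert) 64 640 chk_facts10 i (by omega)
  rcases Nat.lt_or_ge j 768 with h11 | h11
  · obtain ⟨i, rfl⟩ : ∃ i, j = 704 + i := ⟨j - 704, by omega⟩
    exact chkBlocks_get (D := cert) 64 704 chk_facts11 i (by omega)
  rcases Nat.lt_or_ge j 832 with h12 | h12
  · obtain ⟨i, rfl⟩ : ∃ i, j = 768 + i := ⟨j - 768, by omega⟩
    exact chkBlocks_get (D := cert) 64 768 chk_facts12 i (by omega)
  rcases Nat.lt_or_ge j 896 with h13 | h13
  · obtain ⟨i, rfl⟩ : ∃ i, j = 832 + i := ⟨j - 832, by omega⟩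
    exact chkBlocks_get (D := cert) 64 832 chk_facts13 i (by omega)
  rcases Nat.lt_or_ge j 960 with h14 | h14
  · obtain ⟨i, rfl⟩ : ∃ i, j = 896 + i := ⟨j - 896, by omega⟩
    exact chkBlocks_get (D := cert) 64 896 chk_facts14 i (by omega)
  rcases Nat.lt_or_ge j 1024 with h15 | h15
  · obtain ⟨i, rfl⟩ : ∃ i, j = 960 + i := ⟨j - 960, by omega⟩
    exact chkBlocks_get (D := cert) 64 960 chk_facts15 i (by omega)
  rcases Nat.lt_or_ge j 1088 with h16 | h16
  · obtain ⟨i, rfl⟩ : ∃ i, j = 1024 + i := ⟨j - 1024, by omega⟩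
    exact chkBlocks_get (D := cert) 64 1024 chk_facts16 i (by omega)
  rcases Nat.lt_or_ge j 1152 with h17 | h17
  · obtain ⟨i, rfl⟩ : ∃ i, j = 1088 + i := ⟨j - 1088, by omega⟩
    exact chkBlocks_get (D := cert) 64 1088 chk_facts17 i (by omega)
  rcases Nat.lt_or_ge j 1216 with h18 | h18
  · obtain ⟨i, rfl⟩ : ∃ i, j = 1152 + i := ⟨j - 1152, by omega⟩
    exact chkBlocks_get (D := cert) 64 1152 chk_facts18 i (by omega)
  rcases Nat.lt_or_ge j 1280 with h19 | h19
  · obtain ⟨i, rfl⟩ : ∃ i, j = 1216 + i := ⟨j - 1216, by omega⟩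
    exact chkBlocks_get (D := cert) 64 1216 chk_facts19 i (by omega)
  rcases Nat.lt_or_ge j 1344 with h20 | h20
  · obtain ⟨i, rfl⟩ : ∃ i, j = 1280 + i := ⟨j - 1280, by omega⟩
    exact chkBlocks_get (D := cert) 64 1280 chk_facts20 i (by omega)
  rcases Nat.lt_or_ge j 1408 with h21 | h21
  · obtain ⟨i, rfl⟩ : ∃ i, j = 1344 + i := ⟨j - 1344, by omega⟩
    exact chkBlocks_get (D := cert) 64 1344 chk_facts21 i (by omega)
  rcases Nat.lt_or_ge j 1472 with h22 | h22
  · obtain ⟨i, rfl⟩ : ∃ i, j = 1408 + i := ⟨j - 1408, by omega⟩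
    exact chkBlocks_get (D := cert) 64 1408 chk_facts22 i (by omega)
  rcases Nat.lt_or_ge j 1536 with h23 | h23
  · obtain ⟨i, rfl⟩ : ∃ i, j = 1472 + i := ⟨j - 1472, by omega⟩
    exact chkBlocks_get (D := cert) 64 1472 chk_facts23 i (by omega)
  rcases Nat.lt_or_ge j 1600 with h24 | h24
  · obtain ⟨i, rfl⟩ : ∃ i, j = 1536 + i := ⟨j - 1536, by omega⟩
    exact chkBlocks_get (D := cert) 64 1536 chk_facts24 i (by omega)
  rcases Nat.lt_or_ge j 1614 with h25 | h25
  · obtain ⟨i, rfl⟩ : ∃ i, j = 1600 + i := ⟨j - 1600, by omega⟩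
    exact chkBlocks_get (D := cert) 14 1600 chk_facts25 i (by omega)
  omega

theorem covered : Covered cert table live fin where
  hg15 := by decide +kernel
  hn := by decide +kernel
  facts := ⟨1614, by decide +kernel, facts_ok⟩
  rows := by
    intro i hi
    have hi : i < 31671 := hi
    rcases Nat.lt_or_ge i 1500 with h0 | h0
    · exact chkRows_get 1500 0 chk_rows0 i (by omega) (by omega)
    rcases Nat.lt_or_ge i 3000 with h1 | h1
    · exact chkRows_get 1500 1500 chk_rows1 i (by omega) (by omega)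
    rcases Nat.lt_or_ge i 4500 with h2 | h2
    · exact chkRows_get 1500 3000 chk_rows2 i (by omega) (by omega)
    rcases Nat.lt_or_ge i 6000 with h3 | h3
    · exact chkRows_get 1500 4500 chk_rows3 i (by omega) (by omega)
    rcases Nat.lt_or_ge i 7500 with h4 | h4
    · exact chkRows_get 1500 6000 chk_rows4 i (by omega) (by omega)
    rcases Nat.lt_or_ge i 9000 with h5 | h5
    · exact chkRows_get 1500 7500 chk_rows5 i (by omega) (by omega)
    rcases Nat.lt_or_ge i 10500 with h6 | h6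
    · exact chkRows_get 1500 9000 chk_rows6 i (by omega) (by omega)
    rcases Nat.lt_or_ge i 12000 with h7 | h7
    · exact chkRows_get 1500 10500 chk_rows7 i (by omega) (by omega)
    rcases Nat.lt_or_ge i 13500 with h8 | h8
    · exact chkRows_get 1500 12000 chk_rows8 i (by omega) (by omega)
    rcases Nat.lt_or_ge i 15000 with h9 | h9
    · exact chkRows_get 1500 13500 chk_rows9 i (by omega) (by omega)
    rcases Nat.lt_or_ge i 16500 with h10 | h10
    · exact chkRows_get 1500 15000 chk_rows10 i (by omega) (by omega)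
    rcases Nat.lt_or_ge i 18000 with h11 | h11
    · exact chkRows_get 1500 16500 chk_rows11 i (by omega) (by omega)
    rcases Nat.lt_or_ge i 19500 with h12 | h12
    · exact chkRows_get 1500 18000 chk_rows12 i (by omega) (by omega)
    rcases Nat.lt_or_ge i 21000 with h13 | h13
    · exact chkRows_get 1500 19500 chk_rows13 i (by omega) (by omega)
    rcases Nat.lt_or_ge i 22500 with h14 | h14
    · exact chkRows_get 1500 21000 chk_rows14 i (by omega) (by omega)
    rcases Nat.lt_or_ge i 24000 with h15 | h15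
    · exact chkRows_get 1500 22500 chk_rows15 i (by omega) (by omega)
    rcases Nat.lt_or_ge i 25500 with h16 | h16
    · exact chkRows_get 1500 24000 chk_rows16 i (by omega) (by omega)
    rcases Nat.lt_or_ge i 27000 with h17 | h17
    · exact chkRows_get 1500 25500 chk_rows17 i (by omega) (by omega)
    rcases Nat.lt_or_ge i 28500 with h18 | h18
    · exact chkRows_get 1500 27000 chk_rows18 i (by omega) (by omega)
    rcases Nat.lt_or_ge i 30000 with h19 | h19
    · exact chkRows_get 1500 28500 chk_rows19 i (by omega) (by omega)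
    rcases Nat.lt_or_ge i 31500 with h20 | h20
    · exact chkRows_get 1500 30000 chk_rows20 i (by omega) (by omega)
    rcases Nat.lt_or_ge i 31671 with h21 | h21
    · exact chkRows_get 171 31500 chk_rows21 i (by omega) (by omega)
    omega
  root := by decide +kernel

end CfsgLib.InvChar.Coset.F23
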