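import Cfsg.Agent.Lib.InvChar.SporData.F23.OrbC0
import Cfsg.Agent.Lib.InvChar.SporData.F23.OrbC1
import Cfsg.Agent.Lib.InvChar.SporData.F23.OrbC2
import Cfsg.Agent.Lib.InvChar.SporData.F23.OrbC3
import Cfsg.Agent.Lib.InvChar.SporData.F23.OrbC4
import Cfsg.Agent.Lib.InvChar.SporData.F23.OrbC5

set_option autoImplicit false
set_option maxRecDepth 100000

namespace CfsgLib.InvChar.Coset.F23

theorem orb_ok : ∀ j < 31671, Table.OrbitOK table [[0], [1], [2], [3], [4], [5], [6], [7], [8], [9]] orbPts orbPos orbPar 31671 j := by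
  intro k hk
  rcases Nat.lt_or_ge k 2000 with h0 | h0
  · exact Table.chkOrbit_get table [[0], [1], [2], [3], [4], [5], [6], [7], [8], [9]] orbPts orbPos orbPar 31671 2000 0 orb_chk0 k (by omega) (by omega)
  rcases Nat.lt_or_ge k 4000 with h1 | h1
  · exact Table.chkOrbit_get table [[0], [1], [2], [3], [4], [5], [6], [7], [8], [9]] orbPts orbPos orbPar 31671 2000 2000 orb_chk1 k (by omega) (by omega)
  rcases Nat.lt_or_ge k 6000 with h2 | h2
  · exact Table.chkOrbit_get table [[0], [1], [2], [3], [4], [5], [6], [7], [8], [9]] orbPts orbPos orbPar 31671 2000 4000 orb_chk2 k (by omega) (by omega)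
  rcases Nat.lt_or_ge k 8000 with h3 | h3
  · exact Table.chkOrbit_get table [[0], [1], [2], [3], [4], [5], [6], [7], [8], [9]] orbPts orbPos orbPar 31671 2000 6000 orb_chk3 k (by omega) (by omega)
  rcases Nat.lt_or_ge k 10000 with h4 | h4
  · exact Table.chkOrbit_get table [[0], [1], [2], [3], [4], [5], [6], [7], [8], [9]] orbPts orbPos orbPar 31671 2000 8000 orb_chk4 k (by omega) (by omega)
  rcases Nat.lt_or_ge k 12000 with h5 | h5
  · exact Table.chkOrbit_get table [[0], [1], [2], [3], [4], [5], [6], [7], [8], [9]] orbPts orbPos orbPar 31671 2000 10000 orb_chk5 k (by omega) (by omega)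
  rcases Nat.lt_or_ge k 14000 with h6 | h6
  · exact Table.chkOrbit_get table [[0], [1], [2], [3], [4], [5], [6], [7], [8], [9]] orbPts orbPos orbPar 31671 2000 12000 orb_chk6 k (by omega) (by omega)
  rcases Nat.lt_or_ge k 16000 with h7 | h7
  · exact Table.chkOrbit_get table [[0], [1], [2], [3], [4], [5], [6], [7], [8], [9]] orbPts orbPos orbPar 31671 2000 14000 orb_chk7 k (by omega) (by omega)
  rcases Nat.lt_or_ge k 18000 with h8 | h8
  · exact Table.chkOrbit_get table [[0], [1], [2], [3], [4], [5], [6], [7], [8], [9]] orbPts orbPos orbPar 31671 2000 16000 orb_chk8 k (by omega) (by omega)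
  rcases Nat.lt_or_ge k 20000 with h9 | h9
  · exact Table.chkOrbit_get table [[0], [1], [2], [3], [4], [5], [6], [7], [8], [9]] orbPts orbPos orbPar 31671 2000 18000 orb_chk9 k (by omega) (by omega)
  rcases Nat.lt_or_ge k 22000 with h10 | h10
  · exact Table.chkOrbit_get table [[0], [1], [2], [3], [4], [5], [6], [7], [8], [9]] orbPts orbPos orbPar 31671 2000 20000 orb_chk10 k (by omega) (by omega)
  rcases Nat.lt_or_ge k 24000 with h11 | h11
  · exact Table.chkOrbit_get table [[0], [1], [2], [3], [4], [5], [6], [7], [8], [9]] orbPts orbPos orbPar 31671 2000 22000 orb_chk11 k (by omega) (by omega)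
  rcases Nat.lt_or_ge k 26000 with h12 | h12
  · exact Table.chkOrbit_get table [[0], [1], [2], [3], [4], [5], [6], [7], [8], [9]] orbPts orbPos orbPar 31671 2000 24000 orb_chk12 k (by omega) (by omega)
  rcases Nat.lt_or_ge k 28000 with h13 | h13
  · exact Table.chkOrbit_get table [[0], [1], [2], [3], [4], [5], [6], [7], [8], [9]] orbPts orbPos orbPar 31671 2000 26000 orb_chk13 k (by omega) (by omega)
  rcases Nat.lt_or_ge k 30000 with h14 | h14
  · exact Table.chkOrbit_get table [[0], [1], [2], [3], [4], [5], [6], [7], [8], [9]] orbPts orbPos orbPar 31671 2000 28000 orb_chk14 k (by omega) (by omega)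
  rcases Nat.lt_or_ge k 31671 with h15 | h15
  · exact Table.chkOrbit_get table [[0], [1], [2], [3], [4], [5], [6], [7], [8], [9]] orbPts orbPos orbPar 31671 1671 30000 orb_chk15 k (by omega) (by omega)
  omega

theorem orb_root : field orbPts 128 20 0 = 0 := by decide +kernel

end CfsgLib.InvChar.Coset.F23
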