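import Cfsg.Agent.Lib.InvChar.SporData.F23.Data
import Cfsg.Agent.Lib.InvChar.CosetPerm

set_option autoImplicit false
set_option maxRecDepth 100000

namespace CfsgLib.InvChar.Coset.F23

theorem chk_points8 : table.chkPoints rels 500 4000 = true := by decide +kernel

theorem chk_points9 : table.chkPoints rels 500 4500 = true := by decide +kernel

theorem chk_points10 : table.chkPoints rels 500 5000 = true := by decide +kernel

theorem chk_points11 : table.chkPoints rels 500 5500 = true := by decide +kernel

theorem chk_points12 : table.chkPoints rels 500 6000 = true := by decide +kernel

theorem chk_points13 : table.chkPoints rels 500 6500 = true := by decide +kernel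

theorem chk_points14 : table.chkPoints rels 500 7000 = true := by decide +kernel

theorem chk_points15 : table.chkPoints rels 500 7500 = true := by decide +kernel

end CfsgLib.InvChar.Coset.F23
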