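import Cfsg.Agent.Lib.InvChar.SporData.F23.P0
import Cfsg.Agent.Lib.InvChar.SporData.F23.Data
import Cfsg.Agent.Lib.InvChar.CosetPerm

set_option autoImplicit false
set_option maxRecDepth 100000

namespace CfsgLib.InvChar.Coset.F23

theorem chk_points16 : table.chkPoints rels 500 8000 = true := by decide +kernel

theorem chk_points17 : table.chkPoints rels 500 8500 = true := by decide +kernel

theorem chk_points18 : table.chkPoints rels 500 9000 = true := by decide +kernel

theorem chk_points19 : table.chkPoints rels 500 9500 = true := by decide +kernel

theorem chk_points20 : table.chkPoints rels 500 10000 = true := by decide +kernel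

theorem chk_points21 : table.chkPoints rels 500 10500 = true := by decide +kernel

theorem chk_points22 : table.chkPoints rels 500 11000 = true := by decide +kernel

theorem chk_points23 : table.chkPoints rels 500 11500 = true := by decide +kernel

end CfsgLib.InvChar.Coset.F23
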