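import Cfsg.Agent.Lib.InvChar.SporData.F23.P1
import Cfsg.Agent.Lib.InvChar.SporData.F23.Data
import Cfsg.Agent.Lib.InvChar.CosetPerm

set_option autoImplicit false
set_option maxRecDepth 100000

namespace CfsgLib.InvChar.Coset.F23

theorem chk_points24 : table.chkPoints rels 500 12000 = true := by decide +kernel

theorem chk_points25 : table.chkPoints rels 500 12500 = true := by decide +kernel

theorem chk_points26 : table.chkPoints rels 500 13000 = true := by decide +kernel

theorem chk_points27 : table.chkPoints rels 500 13500 = true := by decide +kernel

theorem chk_points28 : table.chkPoints rels 500 14000 = true := by decide +kernel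

theorem chk_points29 : table.chkPoints rels 500 14500 = true := by decide +kernel

theorem chk_points30 : table.chkPoints rels 500 15000 = true := by decide +kernel

theorem chk_points31 : table.chkPoints rels 500 15500 = true := by decide +kernel

end CfsgLib.InvChar.Coset.F23
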