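import Cfsg.Agent.Lib.InvChar.SporData.F23.P2
import Cfsg.Agent.Lib.InvChar.SporData.F23.Data
import Cfsg.Agent.Lib.InvChar.CosetPerm

set_option autoImplicit false
set_option maxRecDepth 100000

namespace CfsgLib.InvChar.Coset.F23

theorem chk_points32 : table.chkPoints rels 500 16000 = true := by decide +kernel

theorem chk_points33 : table.chkPoints rels 500 16500 = true := by decide +kernel

theorem chk_points34 : table.chkPoints rels 500 17000 = true := by decide +kernel

theorem chk_points35 : table.chkPoints rels 500 17500 = true := by decide +kernel

theorem chk_points36 : table.chkPoints rels 500 18000 = true := by decide +kernel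

theorem chk_points37 : table.chkPoints rels 500 18500 = true := by decide +kernel

theorem chk_points38 : table.chkPoints rels 500 19000 = true := by decide +kernel

theorem chk_points39 : table.chkPoints rels 500 19500 = true := by decide +kernel

end CfsgLib.InvChar.Coset.F23
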