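import Cfsg.Agent.Lib.InvChar.SporData.F23.P3
import Cfsg.Agent.Lib.InvChar.SporData.F23.Data
import Cfsg.Agent.Lib.InvChar.CosetPerm

set_option autoImplicit false
set_option maxRecDepth 100000

namespace CfsgLib.InvChar.Coset.F23

theorem chk_points40 : table.chkPoints rels 500 20000 = true := by decide +kernel

theorem chk_points41 : table.chkPoints rels 500 20500 = true := by decide +kernel

theorem chk_points42 : table.chkPoints rels 500 21000 = true := by decide +kernel

theorem chk_points43 : table.chkPoints rels 500 21500 = true := by decide +kernel

theorem chk_points44 : table.chkPoints rels 500 22000 = true := by decide +kernel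

theorem chk_points45 : table.chkPoints rels 500 22500 = true := by decide +kernel

theorem chk_points46 : table.chkPoints rels 500 23000 = true := by decide +kernel

theorem chk_points47 : table.chkPoints rels 500 23500 = true := by decide +kernel

end CfsgLib.InvChar.Coset.F23
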