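import Cfsg.Agent.Lib.InvChar.SporData.F23.P4
import Cfsg.Agent.Lib.InvChar.SporData.F23.Data
import Cfsg.Agent.Lib.InvChar.CosetPerm

set_option autoImplicit false
set_option maxRecDepth 100000

namespace CfsgLib.InvChar.Coset.F23

theorem chk_points48 : table.chkPoints rels 500 24000 = true := by decide +kernel

theorem chk_points49 : table.chkPoints rels 500 24500 = true := by decide +kernel

theorem chk_points50 : table.chkPoints rels 500 25000 = true := by decide +kernel

theorem chk_points51 : table.chkPoints rels 500 25500 = true := by decide +kernel

theorem chk_points52 : table.chkPoints rels 500 26000 = true := by decide +kernel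

theorem chk_points53 : table.chkPoints rels 500 26500 = true := by decide +kernel

theorem chk_points54 : table.chkPoints rels 500 27000 = true := by decide +kernel

theorem chk_points55 : table.chkPoints rels 500 27500 = true := by decide +kernel

end CfsgLib.InvChar.Coset.F23
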