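import Cfsg.Agent.Lib.InvChar.SporData.F23.P5
import Cfsg.Agent.Lib.InvChar.SporData.F23.Data
import Cfsg.Agent.Lib.InvChar.CosetPerm

set_option autoImplicit false
set_option maxRecDepth 100000

namespace CfsgLib.InvChar.Coset.F23

theorem chk_points56 : table.chkPoints rels 500 28000 = true := by decide +kernel

theorem chk_points57 : table.chkPoints rels 500 28500 = true := by decide +kernel

theorem chk_points58 : table.chkPoints rels 500 29000 = true := by decide +kernel

theorem chk_points59 : table.chkPoints rels 500 29500 = true := by decide +kernel

theorem chk_points60 : table.chkPoints rels 500 30000 = true := by decide +kernel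

theorem chk_points61 : table.chkPoints rels 500 30500 = true := by decide +kernel

theorem chk_points62 : table.chkPoints rels 500 31000 = true := by decide +kernel

theorem chk_points63 : table.chkPoints rels 171 31500 = true := by decide +kernel

end CfsgLib.InvChar.Coset.F23
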