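import Cfsg.Agent.Lib.InvChar.SporData.F23.P0
import Cfsg.Agent.Lib.InvChar.SporData.F23.P1
import Cfsg.Agent.Lib.InvChar.SporData.F23.P2
import Cfsg.Agent.Lib.InvChar.SporData.F23.P3
import Cfsg.Agent.Lib.InvChar.SporData.F23.P4
import Cfsg.Agent.Lib.InvChar.SporData.F23.P5
import Cfsg.Agent.Lib.InvChar.SporData.F23.P6
import Cfsg.Agent.Lib.InvChar.SporData.F23.P7

set_option autoImplicit false
set_option maxRecDepth 100000

namespace CfsgLib.InvChar.Coset.F23

theorem valid : table.Valid rels := by
  have key : ∀ i < 31671, (∀ x < table.g, table.app i x < table.n) ∧ ∀ L ∈ rels, table.follow L i = i := by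
    intro i hi
    rcases Nat.lt_or_ge i 500 with h0 | h0
    · exact table.chkPoints_get rels 500 0 chk_points0 i (by omega) (by omega)
    rcases Nat.lt_or_ge i 1000 with h1 | h1
    · exact table.chkPoints_get rels 500 500 chk_points1 i (by omega) (by omega)
    rcases Nat.lt_or_ge i 1500 with h2 | h2
    · exact table.chkPoints_get rels 500 1000 chk_points2 i (by omega) (by omega)
    rcases Nat.lt_or_ge i 2000 with h3 | h3
    · exact table.chkPoints_get rels 500 1500 chk_points3 i (by omega) (by omega)
    rcases Nat.lt_or_ge i 2500 with h4 | h4
    · exact table.chkPoints_get rels 500 2000 chk_points4 i (by omega) (by omega)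
    rcases Nat.lt_or_ge i 3000 with h5 | h5
    · exact table.chkPoints_get rels 500 2500 chk_points5 i (by omega) (by omega)
    rcases Nat.lt_or_ge i 3500 with h6 | h6
    · exact table.chkPoints_get rels 500 3000 chk_points6 i (by omega) (by omega)
    rcases Nat.lt_or_ge i 4000 with h7 | h7
    · exact table.chkPoints_get rels 500 3500 chk_points7 i (by omega) (by omega)
    rcases Nat.lt_or_ge i 4500 with h8 | h8
    · exact table.chkPoints_get rels 500 4000 chk_points8 i (by omega) (by omega)
    rcases Nat.lt_or_ge i 5000 with h9 | h9
    · exact table.chkPoints_get rels 500 4500 chk_points9 i (by omega) (by omega)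
    rcases Nat.lt_or_ge i 5500 with h10 | h10
    · exact table.chkPoints_get rels 500 5000 chk_points10 i (by omega) (by omega)
    rcases Nat.lt_or_ge i 6000 with h11 | h11
    · exact table.chkPoints_get rels 500 5500 chk_points11 i (by omega) (by omega)
    rcases Nat.lt_or_ge i 6500 with h12 | h12
    · exact table.chkPoints_get rels 500 6000 chk_points12 i (by omega) (by omega)
    rcases Nat.lt_or_ge i 7000 with h13 | h13
    · exact table.chkPoints_get rels 500 6500 chk_points13 i (by omega) (by omega)
    rcases Nat.lt_or_ge i 7500 with h14 | h14
    · exact table.chkPoints_get rels 500 7000 chk_points14 i (by omega) (by omega)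
    rcases Nat.lt_or_ge i 8000 with h15 | h15
    · exact table.chkPoints_get rels 500 7500 chk_points15 i (by omega) (by omega)
    rcases Nat.lt_or_ge i 8500 with h16 | h16
    · exact table.chkPoints_get rels 500 8000 chk_points16 i (by omega) (by omega)
    rcases Nat.lt_or_ge i 9000 with h17 | h17
    · exact table.chkPoints_get rels 500 8500 chk_points17 i (by omega) (by omega)
    rcases Nat.lt_or_ge i 9500 with h18 | h18
    · exact table.chkPoints_get rels 500 9000 chk_points18 i (by omega) (by omega)
    rcases Nat.lt_or_ge i 10000 with h19 | h19
    · exact table.chkPoints_get rels 500 9500 chk_points19 i (by omega) (by omega)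
    rcases Nat.lt_or_ge i 10500 with h20 | h20
    · exact table.chkPoints_get rels 500 10000 chk_points20 i (by omega) (by omega)
    rcases Nat.lt_or_ge i 11000 with h21 | h21
    · exact table.chkPoints_get rels 500 10500 chk_points21 i (by omega) (by omega)
    rcases Nat.lt_or_ge i 11500 with h22 | h22
    · exact table.chkPoints_get rels 500 11000 chk_points22 i (by omega) (by omega)
    rcases Nat.lt_or_ge i 12000 with h23 | h23
    · exact table.chkPoints_get rels 500 11500 chk_points23 i (by omega) (by omega)
    rcases Nat.lt_or_ge i 12500 with h24 | h24
    · exact table.chkPoints_get rels 500 12000 chk_points24 i (by omega) (by omega)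
    rcases Nat.lt_or_ge i 13000 with h25 | h25
    · exact table.chkPoints_get rels 500 12500 chk_points25 i (by omega) (by omega)
    rcases Nat.lt_or_ge i 13500 with h26 | h26
    · exact table.chkPoints_get rels 500 13000 chk_points26 i (by omega) (by omega)
    rcases Nat.lt_or_ge i 14000 with h27 | h27
    · exact table.chkPoints_get rels 500 13500 chk_points27 i (by omega) (by omega)
    rcases Nat.lt_or_ge i 14500 with h28 | h28
    · exact table.chkPoints_get rels 500 14000 chk_points28 i (by omega) (by omega)
    rcases Nat.lt_or_ge i 15000 with h29 | h29
    · exact table.chkPoints_get rels 500 14500 chk_points29 i (by omega) (by omega)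
    rcases Nat.lt_or_ge i 15500 with h30 | h30
    · exact table.chkPoints_get rels 500 15000 chk_points30 i (by omega) (by omega)
    rcases Nat.lt_or_ge i 16000 with h31 | h31
    · exact table.chkPoints_get rels 500 15500 chk_points31 i (by omega) (by omega)
    rcases Nat.lt_or_ge i 16500 with h32 | h32
    · exact table.chkPoints_get rels 500 16000 chk_points32 i (by omega) (by omega)
    rcases Nat.lt_or_ge i 17000 with h33 | h33
    · exact table.chkPoints_get rels 500 16500 chk_points33 i (by omega) (by omega)
    rcases Nat.lt_or_ge i 17500 with h34 | h34
    · exact table.chkPoints_get rels 500 17000 chk_points34 i (by omega) (by omega)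
    rcases Nat.lt_or_ge i 18000 with h35 | h35
    · exact table.chkPoints_get rels 500 17500 chk_points35 i (by omega) (by omega)
    rcases Nat.lt_or_ge i 18500 with h36 | h36
    · exact table.chkPoints_get rels 500 18000 chk_points36 i (by omega) (by omega)
    rcases Nat.lt_or_ge i 19000 with h37 | h37
    · exact table.chkPoints_get rels 500 18500 chk_points37 i (by omega) (by omega)
    rcases Nat.lt_or_ge i 19500 with h38 | h38
    · exact table.chkPoints_get rels 500 19000 chk_points38 i (by omega) (by omega)
    rcases Nat.lt_or_ge i 20000 with h39 | h39
    · exact table.chkPoints_get rels 500 19500 chk_points39 i (by omega) (by omega)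
    rcases Nat.lt_or_ge i 20500 with h40 | h40
    · exact table.chkPoints_get rels 500 20000 chk_points40 i (by omega) (by omega)
    rcases Nat.lt_or_ge i 21000 with h41 | h41
    · exact table.chkPoints_get rels 500 20500 chk_points41 i (by omega) (by omega)
    rcases Nat.lt_or_ge i 21500 with h42 | h42
    · exact table.chkPoints_get rels 500 21000 chk_points42 i (by omega) (by omega)
    rcases Nat.lt_or_ge i 22000 with h43 | h43
    · exact table.chkPoints_get rels 500 21500 chk_points43 i (by omega) (by omega)
    rcases Nat.lt_or_ge i 22500 with h44 | h44
    · exact table.chkPoints_get rels 500 22000 chk_points44 i (by omega) (by omega)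
    rcases Nat.lt_or_ge i 23000 with h45 | h45
    · exact table.chkPoints_get rels 500 22500 chk_points45 i (by omega) (by omega)
    rcases Nat.lt_or_ge i 23500 with h46 | h46
    · exact table.chkPoints_get rels 500 23000 chk_points46 i (by omega) (by omega)
    rcases Nat.lt_or_ge i 24000 with h47 | h47
    · exact table.chkPoints_get rels 500 23500 chk_points47 i (by omega) (by omega)
    rcases Nat.lt_or_ge i 24500 with h48 | h48
    · exact table.chkPoints_get rels 500 24000 chk_points48 i (by omega) (by omega)
    rcases Nat.lt_or_ge i 25000 with h49 | h49
    · exact table.chkPoints_get rels 500 24500 chk_points49 i (by omega) (by omega)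
    rcases Nat.lt_or_ge i 25500 with h50 | h50
    · exact table.chkPoints_get rels 500 25000 chk_points50 i (by omega) (by omega)
    rcases Nat.lt_or_ge i 26000 with h51 | h51
    · exact table.chkPoints_get rels 500 25500 chk_points51 i (by omega) (by omega)
    rcases Nat.lt_or_ge i 26500 with h52 | h52
    · exact table.chkPoints_get rels 500 26000 chk_points52 i (by omega) (by omega)
    rcases Nat.lt_or_ge i 27000 with h53 | h53
    · exact table.chkPoints_get rels 500 26500 chk_points53 i (by omega) (by omega)
    rcases Nat.lt_or_ge i 27500 with h54 | h54
    · exact table.chkPoints_get rels 500 27000 chk_points54 i (by omega) (by omega)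
    rcases Nat.lt_or_ge i 28000 with h55 | h55
    · exact table.chkPoints_get rels 500 27500 chk_points55 i (by omega) (by omega)
    rcases Nat.lt_or_ge i 28500 with h56 | h56
    · exact table.chkPoints_get rels 500 28000 chk_points56 i (by omega) (by omega)
    rcases Nat.lt_or_ge i 29000 with h57 | h57
    · exact table.chkPoints_get rels 500 28500 chk_points57 i (by omega) (by omega)
    rcases Nat.lt_or_ge i 29500 with h58 | h58
    · exact table.chkPoints_get rels 500 29000 chk_points58 i (by omega) (by omega)
    rcases Nat.lt_or_ge i 30000 with h59 | h59
    · exact table.chkPoints_get rels 500 29500 chk_points59 i (by omega) (by omega)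
    rcases Nat.lt_or_ge i 30500 with h60 | h60
    · exact table.chkPoints_get rels 500 30000 chk_points60 i (by omega) (by omega)
    rcases Nat.lt_or_ge i 31000 with h61 | h61
    · exact table.chkPoints_get rels 500 30500 chk_points61 i (by omega) (by omega)
    rcases Nat.lt_or_ge i 31500 with h62 | h62
    · exact table.chkPoints_get rels 500 31000 chk_points62 i (by omega) (by omega)
    rcases Nat.lt_or_ge i 31671 with h63 | h63
    · exact table.chkPoints_get rels 171 31500 chk_points63 i (by omega) (by omega)
    omega
  exact ⟨fun i hi => (key i hi).1, fun i hi => (key i hi).2⟩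

theorem sq : ∀ x < table.g, [x, x] ∈ rels := by
  intro x hx
  have hx : x < 10 := hx
  revert x
  decide

end CfsgLib.InvChar.Coset.F23
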