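import Cfsg.Agent.Lib.InvChar.SporData.F23.Sub0Data
import Cfsg.Agent.Lib.InvChar.CosetPerm

set_option autoImplicit false
set_option maxRecDepth 100000

namespace CfsgLib.InvChar.Coset.F23

theorem sub0_chk3 : table.chkOrbit subs sub0Pts sub0Pos sub0Par 28160 2000 6000 = true := by decide +kernel

theorem sub0_chk4 : table.chkOrbit subs sub0Pts sub0Pos sub0Par 28160 2000 8000 = true := by decide +kernel

theorem sub0_chk5 : table.chkOrbit subs sub0Pts sub0Pos sub0Par 28160 2000 10000 = true := by decide +kernel

end CfsgLib.InvChar.Coset.F23
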