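import Cfsg.Agent.Lib.InvChar.SporData.F23.Sub0C1
import Cfsg.Agent.Lib.InvChar.SporData.F23.Sub0Data
import Cfsg.Agent.Lib.InvChar.CosetPerm

set_option autoImplicit false
set_option maxRecDepth 100000

namespace CfsgLib.InvChar.Coset.F23

theorem sub0_chk12 : table.chkOrbit subs sub0Pts sub0Pos sub0Par 28160 2000 24000 = true := by decide +kernel

theorem sub0_chk13 : table.chkOrbit subs sub0Pts sub0Pos sub0Par 28160 2000 26000 = true := by decide +kernel

theorem sub0_chk14 : table.chkOrbit subs sub0Pts sub0Pos sub0Par 28160 160 28000 = true := by decide +kernel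

end CfsgLib.InvChar.Coset.F23
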