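import Cfsg.Agent.Lib.InvChar.SporData.F23.Sub0C0
import Cfsg.Agent.Lib.InvChar.SporData.F23.Sub0C1
import Cfsg.Agent.Lib.InvChar.SporData.F23.Sub0C2
import Cfsg.Agent.Lib.InvChar.SporData.F23.Sub0C3
import Cfsg.Agent.Lib.InvChar.SporData.F23.Sub0C4

set_option autoImplicit false
set_option maxRecDepth 100000

namespace CfsgLib.InvChar.Coset.F23

theorem sub0_ok : ∀ j < 28160, Table.OrbitOK table subs sub0Pts sub0Pos sub0Par 28160 j := by
  intro k hk
  rcases Nat.lt_or_ge k 2000 with h0 | h0
  · exact Table.chkOrbit_get table subs sub0Pts sub0Pos sub0Par 28160 2000 0 sub0_chk0 k (by omega) (by omega)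
  rcases Nat.lt_or_ge k 4000 with h1 | h1
  · exact Table.chkOrbit_get table subs sub0Pts sub0Pos sub0Par 28160 2000 2000 sub0_chk1 k (by omega) (by omega)
  rcases Nat.lt_or_ge k 6000 with h2 | h2
  · exact Table.chkOrbit_get table subs sub0Pts sub0Pos sub0Par 28160 2000 4000 sub0_chk2 k (by omega) (by omega)
  rcases Nat.lt_or_ge k 8000 with h3 | h3
  · exact Table.chkOrbit_get table subs sub0Pts sub0Pos sub0Par 28160 2000 6000 sub0_chk3 k (by omega) (by omega)
  rcases Nat.lt_or_ge k 10000 with h4 | h4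
  · exact Table.chkOrbit_get table subs sub0Pts sub0Pos sub0Par 28160 2000 8000 sub0_chk4 k (by omega) (by omega)
  rcases Nat.lt_or_ge k 12000 with h5 | h5
  · exact Table.chkOrbit_get table subs sub0Pts sub0Pos sub0Par 28160 2000 10000 sub0_chk5 k (by omega) (by omega)
  rcases Nat.lt_or_ge k 14000 with h6 | h6
  · exact Table.chkOrbit_get table subs sub0Pts sub0Pos sub0Par 28160 2000 12000 sub0_chk6 k (by omega) (by omega)
  rcases Nat.lt_or_ge k 16000 with h7 | h7
  · exact Table.chkOrbit_get table subs sub0Pts sub0Pos sub0Par 28160 2000 14000 sub0_chk7 k (by omega) (by omega)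
  rcases Nat.lt_or_ge k 18000 with h8 | h8
  · exact Table.chkOrbit_get table subs sub0Pts sub0Pos sub0Par 28160 2000 16000 sub0_chk8 k (by omega) (by omega)
  rcases Nat.lt_or_ge k 20000 with h9 | h9
  · exact Table.chkOrbit_get table subs sub0Pts sub0Pos sub0Par 28160 2000 18000 sub0_chk9 k (by omega) (by omega)
  rcases Nat.lt_or_ge k 22000 with h10 | h10
  · exact Table.chkOrbit_get table subs sub0Pts sub0Pos sub0Par 28160 2000 20000 sub0_chk10 k (by omega) (by omega)
  rcases Nat.lt_or_ge k 24000 with h11 | h11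
  · exact Table.chkOrbit_get table subs sub0Pts sub0Pos sub0Par 28160 2000 22000 sub0_chk11 k (by omega) (by omega)
  rcases Nat.lt_or_ge k 26000 with h12 | h12
  · exact Table.chkOrbit_get table subs sub0Pts sub0Pos sub0Par 28160 2000 24000 sub0_chk12 k (by omega) (by omega)
  rcases Nat.lt_or_ge k 28000 with h13 | h13
  · exact Table.chkOrbit_get table subs sub0Pts sub0Pos sub0Par 28160 2000 26000 sub0_chk13 k (by omega) (by omega)
  rcases Nat.lt_or_ge k 28160 with h14 | h14
  · exact Table.chkOrbit_get table subs sub0Pts sub0Pos sub0Par 28160 160 28000 sub0_chk14 k (by omega) (by omega)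
  omega

theorem sub0_root : field sub0Pts 128 20 0 = 1 := by decide +kernel

end CfsgLib.InvChar.Coset.F23
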