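import Cfsg.Agent.Lib.InvChar.SporData.F23.Sub1C0

set_option autoImplicit false
set_option maxRecDepth 100000

namespace CfsgLib.InvChar.Coset.F23

theorem sub1_ok : ∀ j < 3510, Table.OrbitOK table subs sub1Pts sub1Pos sub1Par 3510 j := by
  intro k hk
  rcases Nat.lt_or_ge k 2000 with h0 | h0
  · exact Table.chkOrbit_get table subs sub1Pts sub1Pos sub1Par 3510 2000 0 sub1_chk0 k (by omega) (by omega)
  rcases Nat.lt_or_ge k 3510 with h1 | h1
  · exact Table.chkOrbit_get table subs sub1Pts sub1Pos sub1Par 3510 1510 2000 sub1_chk1 k (by omega) (by omega)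
  omega

theorem sub1_root : field sub1Pts 128 20 0 = 52 := by decide +kernel

end CfsgLib.InvChar.Coset.F23
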