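import Cfsg.Agent.Lib.InvChar.SporData.F23.OrbData
import Cfsg.Agent.Lib.InvChar.CosetPerm

set_option autoImplicit false
set_option maxRecDepth 100000

namespace CfsgLib.InvChar.Coset.F23

theorem orb_chk0 : table.chkOrbit [[0], [1], [2], [3], [4], [5], [6], [7], [8], [9]] orbPts orbPos orbPar 31671 2000 0 = true := by decide +kernel

theorem orb_chk1 : table.chkOrbit [[0], [1], [2], [3], [4], [5], [6], [7], [8], [9]] orbPts orbPos orbPar 31671 2000 2000 = true := by decide +kernel

theorem orb_chk2 : table.chkOrbit [[0], [1], [2], [3], [4], [5], [6], [7], [8], [9]] orbPts orbPos orbPar 31671 2000 4000 = true := by decide +kernel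

end CfsgLib.InvChar.Coset.F23
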