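import Cfsg.Agent.Lib.InvChar.SporData.F23.Data
import Cfsg.Agent.Lib.InvChar.CosetPerm

set_option autoImplicit false
set_option maxRecDepth 100000

namespace CfsgLib.InvChar.Coset.F23

theorem chk_points0 : table.chkPoints rels 500 0 = true := by decide +kernel

theorem chk_points1 : table.chkPoints rels 500 500 = true := by decide +kernel

theorem chk_points2 : table.chkPoints rels 500 1000 = true := by decide +kernel

theorem chk_points3 : table.chkPoints rels 500 1500 = true := by decide +kernel

theorem chk_points4 : table.chkPoints rels 500 2000 = true := by decide +kernel

theorem chk_points5 : table.chkPoints rels 500 2500 = true := by decide +kernel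

theorem chk_points6 : table.chkPoints rels 500 3000 = true := by decide +kernel

theorem chk_points7 : table.chkPoints rels 500 3500 = true := by decide +kernel

end CfsgLib.InvChar.Coset.F23
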