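import Cfsg.Agent.Lib.InvChar.SporData.F23.Sub1Data
import Cfsg.Agent.Lib.InvChar.CosetPerm

set_option autoImplicit false
set_option maxRecDepth 100000

namespace CfsgLib.InvChar.Coset.F23

theorem sub1_chk0 : table.chkOrbit subs sub1Pts sub1Pos sub1Par 3510 2000 0 = true := by decide +kernel

theorem sub1_chk1 : table.chkOrbit subs sub1Pts sub1Pos sub1Par 3510 1510 2000 = true := by decide +kernel

end CfsgLib.InvChar.Coset.F23
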